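import Cfsg.Agent.Spor.Th126.D0

set_option autoImplicit false
set_option maxRecDepth 100000000
set_option Elab.async false

namespace Cfsg.Agent.Spor.Th126

theorem ok0 : Net.okb 7 n0 = true := by decide +kernel

theorem ok1 : Net.okb 7 n1 = true := by decide +kernel

theorem ok2 : Net.okb 7 n2 = true := by decide +kernel

theorem ok3 : Net.okb 7 n3 = true := by decide +kernel

theorem ok4 : Net.okb 7 n4 = true := by decide +kernel

theorem rel0 : T.rel 7 [1, 1] 0 7 = true := by decide +kernel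

theorem rel1 : T.rel 7 [2, 2] 0 7 = true := by decide +kernel

theorem rel2 : T.rel 7 [3, 3] 0 7 = true := by decide +kernel

theorem rel3 : T.rel 7 [4, 4] 0 7 = true := by decide +kernel

theorem rel4 : T.rel 7 [5, 5] 0 7 = true := by decide +kernel

theorem rel5 : T.rel 7 [2, 1, 2, 1, 2, 1] 0 7 = true := by decide +kernel

theorem rel6 : T.rel 7 [5, 1, 5, 1] 0 7 = true := by decide +kernel

theorem rel7 : T.rel 7 [3, 2, 3, 2, 3, 2] 0 7 = true := by decide +kernel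

theorem rel8 : T.rel 7 [4, 2, 4, 2] 0 7 = true := by decide +kernel

theorem rel9 : T.rel 7 [5, 2, 5, 2] 0 7 = true := by decide +kernel

theorem rel10 : T.rel 7 [8, 9, 8, 9, 8, 9, 8, 9, 1] 0 7 = true := by decide +kernel

theorem rel11 : T.rel 7 [5, 3, 5, 3] 0 7 = true := by decide +kernel

theorem rel12 : T.rel 7 [5, 4, 5, 4, 5, 4] 0 7 = true := by decide +kernel

theorem rel13 : T.rel 7 [5, 4, 3, 2, 5, 4, 3, 2, 5, 4, 3, 2, 5, 4, 3, 2, 5, 4, 3, 2, 5, 4, 3, 2, 5, 4, 3, 2, 5, 4, 3, 2] 0 7 = true := by decide +kernel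

theorem hcov : T.treeCov (ones 126) L 1 = true := by decide +kernel

theorem hg : lall (fun z => band (memL L z) (band (sub (ones 126) (T.let z).cl) (T.closed (ones 126) z))) gs = true := by decide +kernel

theorem rot1_1 : T.rot 1 [6] (sel (ones 126) ip1 1) = true := by decide +kernel

theorem rot1_1r : band (Rule.ok (2 * 0) EX RL ⟨1 :: [6], [], 14, false⟩) (lall (memL L) [6]) = true := by decide +kernel

theorem rot1_2 : T.rot 1 [1] (sel (ones 126) ip1 2) = true := by decide +kernel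

theorem rot1_2r : band (Rule.ok (2 * 0) EX RL ⟨1 :: [1], [], 0, true⟩) (lall (memL L) [1]) = true := by decide +kernel

theorem rot1_3 : T.rot 1 [5, 1, 5] (sel (ones 126) ip1 3) = true := by decide +kernel

theorem rot1_3r : band (Rule.ok (2 * 0) EX RL ⟨1 :: [5, 1, 5], [0], 6, true⟩) (lall (memL L) [5, 1, 5]) = true := by decide +kernel

theorem rot1_4 : T.rot 1 [2, 1, 2, 1, 2] (sel (ones 126) ip1 4) = true := by decide +kernel

theorem rot1_4r : band (Rule.ok (2 * 0) EX RL ⟨1 :: [2, 1, 2, 1, 2], [0], 5, true⟩) (lall (memL L) [2, 1, 2, 1, 2]) = true := by decide +kernel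

theorem rot1_5 : T.rot 1 [8, 9, 8, 9, 8, 9, 8, 9] (sel (ones 126) ip1 5) = true := by decide +kernel

theorem rot1_5r : band (Rule.ok (2 * 0) EX RL ⟨1 :: [8, 9, 8, 9, 8, 9, 8, 9], [0], 10, true⟩) (lall (memL L) [8, 9, 8, 9, 8, 9, 8, 9]) = true := by decide +kernel

theorem cov1 : T.cover 1 [(sel (ones 126) ip1 1), (sel (ones 126) ip1 2), (sel (ones 126) ip1 3), (sel (ones 126) ip1 4), (sel (ones 126) ip1 5), 1] = true := by decide +kernel

theorem tl1 : T.treeLt 7 1 = true := by decide +kernel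

theorem rot2_1 : T.rot 2 [2] (sel (ones 126) ip2 1) = true := by decide +kernel

theorem rot2_1r : band (Rule.ok (2 * 0) EX RL ⟨2 :: [2], [], 1, true⟩) (lall (memL L) [2]) = true := by decide +kernel

theorem rot2_2 : T.rot 2 [4, 2, 4] (sel (ones 126) ip2 2) = true := by decide +kernel

theorem rot2_2r : band (Rule.ok (2 * 0) EX RL ⟨2 :: [4, 2, 4], [2], 8, true⟩) (lall (memL L) [4, 2, 4]) = true := by decide +kernel

theorem rot2_3 : T.rot 2 [5, 2, 5] (sel (ones 126) ip2 3) = true := by decide +kernel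

theorem rot2_3r : band (Rule.ok (2 * 0) EX RL ⟨2 :: [5, 2, 5], [2], 9, true⟩) (lall (memL L) [5, 2, 5]) = true := by decide +kernel

theorem rot2_4 : T.rot 2 [1, 2, 1, 2, 1] (sel (ones 126) ip2 4) = true := by decide +kernel

theorem rot2_4r : band (Rule.ok (2 * 0) EX RL ⟨2 :: [1, 2, 1, 2, 1], [], 5, true⟩) (lall (memL L) [1, 2, 1, 2, 1]) = true := by decide +kernel

theorem rot2_5 : T.rot 2 [3, 2, 3, 2, 3] (sel (ones 126) ip2 5) = true := by decide +kernel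

theorem rot2_5r : band (Rule.ok (2 * 0) EX RL ⟨2 :: [3, 2, 3, 2, 3], [2], 7, true⟩) (lall (memL L) [3, 2, 3, 2, 3]) = true := by decide +kernel

theorem rot2_6 : T.rot 2 [5, 4, 3, 2, 5, 4, 3, 2, 5, 4, 3, 2, 5, 4, 3, 2, 5, 4, 3, 2, 5, 4, 3, 2, 5, 4, 3, 2, 5, 4, 3] (sel (ones 126) ip2 6) = true := by decide +kernel

theorem rot2_6r : band (Rule.ok (2 * 0) EX RL ⟨2 :: [5, 4, 3, 2, 5, 4, 3, 2, 5, 4, 3, 2, 5, 4, 3, 2, 5, 4, 3, 2, 5, 4, 3, 2, 5, 4, 3, 2, 5, 4, 3], [2], 13, true⟩) (lall (memL L) [5, 4, 3, 2, 5, 4, 3, 2, 5, 4, 3, 2, 5, 4, 3, 2, 5, 4, 3, 2, 5, 4, 3, 2, 5, 4, 3, 2, 5, 4, 3]) = true := by decide +kernel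

theorem cov2 : T.cover 2 [(sel (ones 126) ip2 1), (sel (ones 126) ip2 2), (sel (ones 126) ip2 3), (sel (ones 126) ip2 4), (sel (ones 126) ip2 5), (sel (ones 126) ip2 6)] = true := by decide +kernel

theorem tl2 : T.treeLt 7 2 = true := by decide +kernel

theorem rot3_1 : T.rot 3 [3] (sel (ones 126) ip3 1) = true := by decide +kernel

theorem rot3_1r : band (Rule.ok (2 * 0) EX RL ⟨3 :: [3], [], 2, true⟩) (lall (memL L) [3]) = true := by decide +kernel

theorem rot3_2 : T.rot 3 [5, 3, 5] (sel (ones 126) ip3 2) = true := by decide +kernel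

theorem rot3_2r : band (Rule.ok (2 * 0) EX RL ⟨3 :: [5, 3, 5], [4], 11, true⟩) (lall (memL L) [5, 3, 5]) = true := by decide +kernel

theorem rot3_3 : T.rot 3 [2, 3, 2, 3, 2] (sel (ones 126) ip3 3) = true := by decide +kernel

theorem rot3_3r : band (Rule.ok (2 * 0) EX RL ⟨3 :: [2, 3, 2, 3, 2], [], 7, true⟩) (lall (memL L) [2, 3, 2, 3, 2]) = true := by decide +kernel

theorem rot3_4 : T.rot 3 [4, 3, 4, 3, 4, 3, 6, 4] (sel (ones 126) ip3 4) = true := by decide +kernel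

theorem rot3_4r : band (Rule.ok (2 * 0) EX RL ⟨3 :: [4, 3, 4, 3, 4, 3, 6, 4], [0, 7], 10, false⟩) (lall (memL L) [4, 3, 4, 3, 4, 3, 6, 4]) = true := by decide +kernel

theorem rot3_5 : T.rot 3 [4, 3, 4, 3, 6, 4, 3, 4] (sel (ones 126) ip3 5) = true := by decide +kernel

theorem rot3_5r : band (Rule.ok (2 * 0) EX RL ⟨3 :: [4, 3, 4, 3, 6, 4, 3, 4], [0, 7, 5, 7], 10, false⟩) (lall (memL L) [4, 3, 4, 3, 6, 4, 3, 4]) = true := by decide +kernel

theorem rot3_6 : T.rot 3 [4, 3, 6, 4, 3, 4, 3, 4] (sel (ones 126) ip3 6) = true := by decide +kernel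

theorem rot3_6r : band (Rule.ok (2 * 0) EX RL ⟨3 :: [4, 3, 6, 4, 3, 4, 3, 4], [4, 6, 4], 10, false⟩) (lall (memL L) [4, 3, 6, 4, 3, 4, 3, 4]) = true := by decide +kernel

theorem rot3_7 : T.rot 3 [6, 4, 3, 4, 3, 4, 3, 4] (sel (ones 126) ip3 7) = true := by decide +kernel

theorem rot3_7r : band (Rule.ok (2 * 0) EX RL ⟨3 :: [6, 4, 3, 4, 3, 4, 3, 4], [4], 10, false⟩) (lall (memL L) [6, 4, 3, 4, 3, 4, 3, 4]) = true := by decide +kernel

theorem cov3 : T.cover 3 [(sel (ones 126) ip3 1), (sel (ones 126) ip3 2), (sel (ones 126) ip3 3), (sel (ones 126) ip3 4), (sel (ones 126) ip3 5), (sel (ones 126) ip3 6), (sel (ones 126) ip3 7), 1] = true := by decide +kernel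

theorem tl3 : T.treeLt 7 3 = true := by decide +kernel

theorem rot4_1 : T.rot 4 [4] (sel (ones 126) ip4 1) = true := by decide +kernel

theorem rot4_1r : band (Rule.ok (2 * 0) EX RL ⟨4 :: [4], [], 3, true⟩) (lall (memL L) [4]) = true := by decide +kernel

theorem rot4_2 : T.rot 4 [2, 4, 2] (sel (ones 126) ip4 2) = true := by decide +kernel

theorem rot4_2r : band (Rule.ok (2 * 0) EX RL ⟨4 :: [2, 4, 2], [], 8, true⟩) (lall (memL L) [2, 4, 2]) = true := by decide +kernel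

theorem rot4_3 : T.rot 4 [5, 4, 5, 4, 5] (sel (ones 126) ip4 3) = true := by decide +kernel

theorem rot4_3r : band (Rule.ok (2 * 0) EX RL ⟨4 :: [5, 4, 5, 4, 5], [6], 12, true⟩) (lall (memL L) [5, 4, 5, 4, 5]) = true := by decide +kernel

theorem rot4_4 : T.rot 4 [3, 4, 3, 4, 3, 4, 3, 6] (sel (ones 126) ip4 4) = true := by decide +kernel

theorem rot4_4r : band (Rule.ok (2 * 0) EX RL ⟨4 :: [3, 4, 3, 4, 3, 4, 3, 6], [0], 10, false⟩) (lall (memL L) [3, 4, 3, 4, 3, 4, 3, 6]) = true := by decide +kernel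

theorem rot4_5 : T.rot 4 [3, 4, 3, 4, 3, 6, 4, 3] (sel (ones 126) ip4 5) = true := by decide +kernel

theorem rot4_5r : band (Rule.ok (2 * 0) EX RL ⟨4 :: [3, 4, 3, 4, 3, 6, 4, 3], [0, 7, 5], 10, false⟩) (lall (memL L) [3, 4, 3, 4, 3, 6, 4, 3]) = true := by decide +kernel

theorem rot4_6 : T.rot 4 [3, 4, 3, 6, 4, 3, 4, 3] (sel (ones 126) ip4 6) = true := by decide +kernel

theorem rot4_6r : band (Rule.ok (2 * 0) EX RL ⟨4 :: [3, 4, 3, 6, 4, 3, 4, 3], [4, 6, 4, 6], 10, false⟩) (lall (memL L) [3, 4, 3, 6, 4, 3, 4, 3]) = true := by decide +kernel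

theorem rot4_7 : T.rot 4 [3, 2, 5, 4, 3, 2, 5, 4, 3, 2, 5, 4, 3, 2, 5, 4, 3, 2, 5, 4, 3, 2, 5, 4, 3, 2, 5, 4, 3, 2, 5] (sel (ones 126) ip4 7) = true := by decide +kernel

theorem rot4_7r : band (Rule.ok (2 * 0) EX RL ⟨4 :: [3, 2, 5, 4, 3, 2, 5, 4, 3, 2, 5, 4, 3, 2, 5, 4, 3, 2, 5, 4, 3, 2, 5, 4, 3, 2, 5, 4, 3, 2, 5], [9], 13, true⟩) (lall (memL L) [3, 2, 5, 4, 3, 2, 5, 4, 3, 2, 5, 4, 3, 2, 5, 4, 3, 2, 5, 4, 3, 2, 5, 4, 3, 2, 5, 4, 3, 2, 5]) = true := by decide +kernel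

theorem cov4 : T.cover 4 [(sel (ones 126) ip4 1), (sel (ones 126) ip4 2), (sel (ones 126) ip4 3), (sel (ones 126) ip4 4), (sel (ones 126) ip4 5), (sel (ones 126) ip4 6), (sel (ones 126) ip4 7), 1] = true := by decide +kernel

theorem tl4 : T.treeLt 7 4 = true := by decide +kernel

theorem rot5_1 : T.rot 5 [5] (sel (ones 126) ip5 1) = true := by decide +kernel

theorem rot5_1r : band (Rule.ok (2 * 0) EX RL ⟨5 :: [5], [], 4, true⟩) (lall (memL L) [5]) = true := by decide +kernel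

theorem rot5_2 : T.rot 5 [1, 5, 1] (sel (ones 126) ip5 2) = true := by decide +kernel

theorem rot5_2r : band (Rule.ok (2 * 0) EX RL ⟨5 :: [1, 5, 1], [], 6, true⟩) (lall (memL L) [1, 5, 1]) = true := by decide +kernel

theorem rot5_3 : T.rot 5 [2, 5, 2] (sel (ones 126) ip5 3) = true := by decide +kernel

theorem rot5_3r : band (Rule.ok (2 * 0) EX RL ⟨5 :: [2, 5, 2], [], 9, true⟩) (lall (memL L) [2, 5, 2]) = true := by decide +kernel

theorem rot5_4 : T.rot 5 [3, 5, 3] (sel (ones 126) ip5 4) = true := by decide +kernel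

theorem rot5_4r : band (Rule.ok (2 * 0) EX RL ⟨5 :: [3, 5, 3], [], 11, true⟩) (lall (memL L) [3, 5, 3]) = true := by decide +kernel

theorem rot5_5 : T.rot 5 [4, 5, 4, 5, 4] (sel (ones 126) ip5 5) = true := by decide +kernel

theorem rot5_5r : band (Rule.ok (2 * 0) EX RL ⟨5 :: [4, 5, 4, 5, 4], [], 12, true⟩) (lall (memL L) [4, 5, 4, 5, 4]) = true := by decide +kernel

theorem rot5_6 : T.rot 5 [4, 3, 2, 5, 4, 3, 2, 5, 4, 3, 2, 5, 4, 3, 2, 5, 4, 3, 2, 5, 4, 3, 2, 5, 4, 3, 2, 5, 4, 3, 2] (sel (ones 126) ip5 6) = true := by decide +kernel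

theorem rot5_6r : band (Rule.ok (2 * 0) EX RL ⟨5 :: [4, 3, 2, 5, 4, 3, 2, 5, 4, 3, 2, 5, 4, 3, 2, 5, 4, 3, 2, 5, 4, 3, 2, 5, 4, 3, 2, 5, 4, 3, 2], [], 13, true⟩) (lall (memL L) [4, 3, 2, 5, 4, 3, 2, 5, 4, 3, 2, 5, 4, 3, 2, 5, 4, 3, 2, 5, 4, 3, 2, 5, 4, 3, 2, 5, 4, 3, 2]) = true := by decide +kernel

theorem cov5 : T.cover 5 [(sel (ones 126) ip5 1), (sel (ones 126) ip5 2), (sel (ones 126) ip5 3), (sel (ones 126) ip5 4), (sel (ones 126) ip5 5), (sel (ones 126) ip5 6), 1] = true := by decide +kernel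

theorem tl5 : T.treeLt 7 5 = true := by decide +kernel

theorem rot6_1 : T.rot 6 [1] (sel (ones 126) ip6 1) = true := by decide +kernel

theorem rot6_1r : band (Rule.ok (2 * 0) EX RL ⟨6 :: [1], [], 14, false⟩) (lall (memL L) [1]) = true := by decide +kernel

theorem rot6_2 : T.rot 6 [6] (sel (ones 126) ip6 2) = true := by decide +kernel

theorem rot6_2r : band (Rule.ok (2 * 0) EX RL ⟨6 :: [6], [], 0, false⟩) (lall (memL L) [6]) = true := by decide +kernel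

theorem rot6_3 : T.rot 6 [10, 6, 10] (sel (ones 126) ip6 3) = true := by decide +kernel

theorem rot6_3r : band (Rule.ok (2 * 0) EX RL ⟨6 :: [10, 6, 10], [], 6, false⟩) (lall (memL L) [10, 6, 10]) = true := by decide +kernel

theorem rot6_4 : T.rot 6 [7, 6, 7, 6, 7] (sel (ones 126) ip6 4) = true := by decide +kernel

theorem rot6_4r : band (Rule.ok (2 * 0) EX RL ⟨6 :: [7, 6, 7, 6, 7], [], 5, false⟩) (lall (memL L) [7, 6, 7, 6, 7]) = true := by decide +kernel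

theorem rot6_5 : T.rot 6 [4, 3, 4, 3, 4, 3, 4, 3] (sel (ones 126) ip6 5) = true := by decide +kernel

theorem rot6_5r : band (Rule.ok (2 * 0) EX RL ⟨6 :: [4, 3, 4, 3, 4, 3, 4, 3], [], 10, false⟩) (lall (memL L) [4, 3, 4, 3, 4, 3, 4, 3]) = true := by decide +kernel

theorem cov6 : T.cover 6 [(sel (ones 126) ip6 1), (sel (ones 126) ip6 2), (sel (ones 126) ip6 3), (sel (ones 126) ip6 4), (sel (ones 126) ip6 5)] = true := by decide +kernel

theorem tl6 : Nat.beq (T.let 6).tt 0 = true := by decide +kernel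

theorem rot7_1 : T.rot 7 [2] (sel (ones 126) ip7 1) = true := by decide +kernel

theorem rot7_1r : band (Rule.ok (2 * 0) EX RL ⟨7 :: [2], [], 14, false⟩) (lall (memL L) [2]) = true := by decide +kernel

theorem rot7_2 : T.rot 7 [7] (sel (ones 126) ip7 2) = true := by decide +kernel

theorem rot7_2r : band (Rule.ok (2 * 0) EX RL ⟨7 :: [7], [], 1, false⟩) (lall (memL L) [7]) = true := by decide +kernel

theorem rot7_3 : T.rot 7 [9, 7, 9] (sel (ones 126) ip7 3) = true := by decide +kernel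

theorem rot7_3r : band (Rule.ok (2 * 0) EX RL ⟨7 :: [9, 7, 9], [], 8, false⟩) (lall (memL L) [9, 7, 9]) = true := by decide +kernel

theorem rot7_4 : T.rot 7 [10, 7, 10] (sel (ones 126) ip7 4) = true := by decide +kernel

theorem rot7_4r : band (Rule.ok (2 * 0) EX RL ⟨7 :: [10, 7, 10], [], 9, false⟩) (lall (memL L) [10, 7, 10]) = true := by decide +kernel

theorem rot7_5 : T.rot 7 [6, 7, 6, 7, 6] (sel (ones 126) ip7 5) = true := by decide +kernel

theorem rot7_5r : band (Rule.ok (2 * 0) EX RL ⟨7 :: [6, 7, 6, 7, 6], [3], 5, false⟩) (lall (memL L) [6, 7, 6, 7, 6]) = true := by decide +kernel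

theorem rot7_6 : T.rot 7 [8, 7, 8, 7, 8] (sel (ones 126) ip7 6) = true := by decide +kernel

theorem rot7_6r : band (Rule.ok (2 * 0) EX RL ⟨7 :: [8, 7, 8, 7, 8], [], 7, false⟩) (lall (memL L) [8, 7, 8, 7, 8]) = true := by decide +kernel

theorem rot7_7 : T.rot 7 [8, 9, 10, 7, 8, 9, 10, 7, 8, 9, 10, 7, 8, 9, 10, 7, 8, 9, 10, 7, 8, 9, 10, 7, 8, 9, 10, 7, 8, 9, 10] (sel (ones 126) ip7 7) = true := by decide +kernel

theorem rot7_7r : band (Rule.ok (2 * 0) EX RL ⟨7 :: [8, 9, 10, 7, 8, 9, 10, 7, 8, 9, 10, 7, 8, 9, 10, 7, 8, 9, 10, 7, 8, 9, 10, 7, 8, 9, 10, 7, 8, 9, 10], [], 13, false⟩) (lall (memL L) [8, 9, 10, 7, 8, 9, 10, 7, 8, 9, 10, 7, 8, 9, 10, 7, 8, 9, 10, 7, 8, 9, 10, 7, 8, 9, 10, 7, 8, 9, 10]) = true := by decide +kernel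

theorem cov7 : T.cover 7 [(sel (ones 126) ip7 1), (sel (ones 126) ip7 2), (sel (ones 126) ip7 3), (sel (ones 126) ip7 4), (sel (ones 126) ip7 5), (sel (ones 126) ip7 6), (sel (ones 126) ip7 7)] = true := by decide +kernel

theorem tl7 : Nat.beq (T.let 7).tt 0 = true := by decide +kernel

theorem rot8_1 : T.rot 8 [3] (sel (ones 126) ip8 1) = true := by decide +kernel

theorem rot8_1r : band (Rule.ok (2 * 0) EX RL ⟨8 :: [3], [], 14, false⟩) (lall (memL L) [3]) = true := by decide +kernel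

theorem rot8_2 : T.rot 8 [8] (sel (ones 126) ip8 2) = true := by decide +kernel

theorem rot8_2r : band (Rule.ok (2 * 0) EX RL ⟨8 :: [8], [], 2, false⟩) (lall (memL L) [8]) = true := by decide +kernel

theorem rot8_3 : T.rot 8 [10, 8, 10] (sel (ones 126) ip8 3) = true := by decide +kernel

theorem rot8_3r : band (Rule.ok (2 * 0) EX RL ⟨8 :: [10, 8, 10], [], 11, false⟩) (lall (memL L) [10, 8, 10]) = true := by decide +kernel

theorem rot8_4 : T.rot 8 [7, 8, 7, 8, 7] (sel (ones 126) ip8 4) = true := by decide +kernel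

theorem rot8_4r : band (Rule.ok (2 * 0) EX RL ⟨8 :: [7, 8, 7, 8, 7], [5], 7, false⟩) (lall (memL L) [7, 8, 7, 8, 7]) = true := by decide +kernel

theorem rot8_5 : T.rot 8 [9, 8, 9, 8, 9, 8, 9, 1] (sel (ones 126) ip8 5) = true := by decide +kernel

theorem rot8_5r : band (Rule.ok (2 * 0) EX RL ⟨8 :: [9, 8, 9, 8, 9, 8, 9, 1], [], 10, true⟩) (lall (memL L) [9, 8, 9, 8, 9, 8, 9, 1]) = true := by decide +kernel

theorem rot8_6 : T.rot 8 [9, 8, 9, 8, 9, 1, 8, 9] (sel (ones 126) ip8 6) = true := by decide +kernel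

theorem rot8_6r : band (Rule.ok (2 * 0) EX RL ⟨8 :: [9, 8, 9, 8, 9, 1, 8, 9], [4, 6], 10, true⟩) (lall (memL L) [9, 8, 9, 8, 9, 1, 8, 9]) = true := by decide +kernel

theorem rot8_7 : T.rot 8 [9, 8, 9, 1, 8, 9, 8, 9] (sel (ones 126) ip8 7) = true := by decide +kernel

theorem rot8_7r : band (Rule.ok (2 * 0) EX RL ⟨8 :: [9, 8, 9, 1, 8, 9, 8, 9], [4, 6, 4, 6], 10, true⟩) (lall (memL L) [9, 8, 9, 1, 8, 9, 8, 9]) = true := by decide +kernel

theorem rot8_8 : T.rot 8 [9, 1, 8, 9, 8, 9, 8, 9] (sel (ones 126) ip8 8) = true := by decide +kernel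

theorem rot8_8r : band (Rule.ok (2 * 0) EX RL ⟨8 :: [9, 1, 8, 9, 8, 9, 8, 9], [0, 7, 5], 10, true⟩) (lall (memL L) [9, 1, 8, 9, 8, 9, 8, 9]) = true := by decide +kernel

theorem cov8 : T.cover 8 [(sel (ones 126) ip8 1), (sel (ones 126) ip8 2), (sel (ones 126) ip8 3), (sel (ones 126) ip8 4), (sel (ones 126) ip8 5), (sel (ones 126) ip8 6), (sel (ones 126) ip8 7), (sel (ones 126) ip8 8)] = true := by decide +kernel

theorem tl8 : Nat.beq (T.let 8).tt 0 = true := by decide +kernel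

theorem rot9_1 : T.rot 9 [4] (sel (ones 126) ip9 1) = true := by decide +kernel

theorem rot9_1r : band (Rule.ok (2 * 0) EX RL ⟨9 :: [4], [], 14, false⟩) (lall (memL L) [4]) = true := by decide +kernel

theorem rot9_2 : T.rot 9 [9] (sel (ones 126) ip9 2) = true := by decide +kernel

theorem rot9_2r : band (Rule.ok (2 * 0) EX RL ⟨9 :: [9], [], 3, false⟩) (lall (memL L) [9]) = true := by decide +kernel

theorem rot9_3 : T.rot 9 [7, 9, 7] (sel (ones 126) ip9 3) = true := by decide +kernel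

theorem rot9_3r : band (Rule.ok (2 * 0) EX RL ⟨9 :: [7, 9, 7], [7], 8, false⟩) (lall (memL L) [7, 9, 7]) = true := by decide +kernel

theorem rot9_4 : T.rot 9 [10, 9, 10, 9, 10] (sel (ones 126) ip9 4) = true := by decide +kernel

theorem rot9_4r : band (Rule.ok (2 * 0) EX RL ⟨9 :: [10, 9, 10, 9, 10], [], 12, false⟩) (lall (memL L) [10, 9, 10, 9, 10]) = true := by decide +kernel

theorem rot9_5 : T.rot 9 [8, 9, 8, 9, 8, 9, 1, 8] (sel (ones 126) ip9 5) = true := by decide +kernel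

theorem rot9_5r : band (Rule.ok (2 * 0) EX RL ⟨9 :: [8, 9, 8, 9, 8, 9, 1, 8], [4], 10, true⟩) (lall (memL L) [8, 9, 8, 9, 8, 9, 1, 8]) = true := by decide +kernel

theorem rot9_6 : T.rot 9 [8, 9, 8, 9, 1, 8, 9, 8] (sel (ones 126) ip9 6) = true := by decide +kernel

theorem rot9_6r : band (Rule.ok (2 * 0) EX RL ⟨9 :: [8, 9, 8, 9, 1, 8, 9, 8], [4, 6, 4], 10, true⟩) (lall (memL L) [8, 9, 8, 9, 1, 8, 9, 8]) = true := by decide +kernel

theorem rot9_7 : T.rot 9 [8, 9, 1, 8, 9, 8, 9, 8] (sel (ones 126) ip9 7) = true := by decide +kernel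

theorem rot9_7r : band (Rule.ok (2 * 0) EX RL ⟨9 :: [8, 9, 1, 8, 9, 8, 9, 8], [0, 7, 5, 7], 10, true⟩) (lall (memL L) [8, 9, 1, 8, 9, 8, 9, 8]) = true := by decide +kernel

theorem rot9_8 : T.rot 9 [1, 8, 9, 8, 9, 8, 9, 8] (sel (ones 126) ip9 8) = true := by decide +kernel

theorem rot9_8r : band (Rule.ok (2 * 0) EX RL ⟨9 :: [1, 8, 9, 8, 9, 8, 9, 8], [0, 7], 10, true⟩) (lall (memL L) [1, 8, 9, 8, 9, 8, 9, 8]) = true := by decide +kernel

theorem rot9_9 : T.rot 9 [10, 7, 8, 9, 10, 7, 8, 9, 10, 7, 8, 9, 10, 7, 8, 9, 10, 7, 8, 9, 10, 7, 8, 9, 10, 7, 8, 9, 10, 7, 8] (sel (ones 126) ip9 9) = true := by decide +kernel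

theorem rot9_9r : band (Rule.ok (2 * 0) EX RL ⟨9 :: [10, 7, 8, 9, 10, 7, 8, 9, 10, 7, 8, 9, 10, 7, 8, 9, 10, 7, 8, 9, 10, 7, 8, 9, 10, 7, 8, 9, 10, 7, 8], [9, 7], 13, false⟩) (lall (memL L) [10, 7, 8, 9, 10, 7, 8, 9, 10, 7, 8, 9, 10, 7, 8, 9, 10, 7, 8, 9, 10, 7, 8, 9, 10, 7, 8, 9, 10, 7, 8]) = true := by decide +kernel

theorem cov9 : T.cover 9 [(sel (ones 126) ip9 1), (sel (ones 126) ip9 2), (sel (ones 126) ip9 3), (sel (ones 126) ip9 4), (sel (ones 126) ip9 5), (sel (ones 126) ip9 6), (sel (ones 126) ip9 7), (sel (ones 126) ip9 8), (sel (ones 126) ip9 9)] = true := by decide +kernel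

theorem tl9 : Nat.beq (T.let 9).tt 0 = true := by decide +kernel

theorem rot10_1 : T.rot 10 [5] (sel (ones 126) ip10 1) = true := by decide +kernel

theorem rot10_1r : band (Rule.ok (2 * 0) EX RL ⟨10 :: [5], [], 14, false⟩) (lall (memL L) [5]) = true := by decide +kernel

theorem rot10_2 : T.rot 10 [10] (sel (ones 126) ip10 2) = true := by decide +kernel

theorem rot10_2r : band (Rule.ok (2 * 0) EX RL ⟨10 :: [10], [], 4, false⟩) (lall (memL L) [10]) = true := by decide +kernel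

theorem rot10_3 : T.rot 10 [6, 10, 6] (sel (ones 126) ip10 3) = true := by decide +kernel

theorem rot10_3r : band (Rule.ok (2 * 0) EX RL ⟨10 :: [6, 10, 6], [9], 6, false⟩) (lall (memL L) [6, 10, 6]) = true := by decide +kernel

theorem rot10_4 : T.rot 10 [7, 10, 7] (sel (ones 126) ip10 4) = true := by decide +kernel

theorem rot10_4r : band (Rule.ok (2 * 0) EX RL ⟨10 :: [7, 10, 7], [9], 9, false⟩) (lall (memL L) [7, 10, 7]) = true := by decide +kernel

theorem rot10_5 : T.rot 10 [8, 10, 8] (sel (ones 126) ip10 5) = true := by decide +kernel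

theorem rot10_5r : band (Rule.ok (2 * 0) EX RL ⟨10 :: [8, 10, 8], [9], 11, false⟩) (lall (memL L) [8, 10, 8]) = true := by decide +kernel

theorem rot10_6 : T.rot 10 [9, 10, 9, 10, 9] (sel (ones 126) ip10 6) = true := by decide +kernel

theorem rot10_6r : band (Rule.ok (2 * 0) EX RL ⟨10 :: [9, 10, 9, 10, 9], [9], 12, false⟩) (lall (memL L) [9, 10, 9, 10, 9]) = true := by decide +kernel

theorem rot10_7 : T.rot 10 [7, 8, 9, 10, 7, 8, 9, 10, 7, 8, 9, 10, 7, 8, 9, 10, 7, 8, 9, 10, 7, 8, 9, 10, 7, 8, 9, 10, 7, 8, 9] (sel (ones 126) ip10 7) = true := by decide +kernel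

theorem rot10_7r : band (Rule.ok (2 * 0) EX RL ⟨10 :: [7, 8, 9, 10, 7, 8, 9, 10, 7, 8, 9, 10, 7, 8, 9, 10, 7, 8, 9, 10, 7, 8, 9, 10, 7, 8, 9, 10, 7, 8, 9], [9], 13, false⟩) (lall (memL L) [7, 8, 9, 10, 7, 8, 9, 10, 7, 8, 9, 10, 7, 8, 9, 10, 7, 8, 9, 10, 7, 8, 9, 10, 7, 8, 9, 10, 7, 8, 9]) = true := by decide +kernel

theorem cov10 : T.cover 10 [(sel (ones 126) ip10 1), (sel (ones 126) ip10 2), (sel (ones 126) ip10 3), (sel (ones 126) ip10 4), (sel (ones 126) ip10 5), (sel (ones 126) ip10 6), (sel (ones 126) ip10 7)] = true := by decide +kernel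

theorem tl10 : Nat.beq (T.let 10).tt 0 = true := by decide +kernel

end Cfsg.Agent.Spor.Th126
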