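import Cfsg.Agent.Spor.Chk

set_option autoImplicit false
set_option maxRecDepth 100000000
set_option Elab.async false
noncomputable section

namespace Cfsg.Agent.Spor.Th126

def m0_0 : Nat := nat_lit 0x1c20000000818059
def m0_1 : Nat := nat_lit 0x8f1b0fa000000001c3184e1
def m0_2 : Nat := nat_lit 0x1d27000072d00000935400006498
def m0_3 : Nat := nat_lit 0xd00060055000b007b001200e600c2
def m0_4 : Nat := nat_lit 0x1040a030e0404070a01050106000a
def m0_5 : Nat := nat_lit 0x2100010303210021331023121122301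
def m0_6 : Nat := nat_lit 0x151544504544440144100144411511
def m0_7 : Nat := nat_lit 0x100010000012210001000101000020
def m0_8 : Nat := nat_lit 0x10408030104080001010505030208
def m0_9 : Nat := nat_lit 0xc00060013000500100002000000b4
def m0_10 : Nat := nat_lit 0x1d23000015ec0000111400004021
def m0_11 : Nat := nat_lit 0x8f1b0fa000000001c3184e1
def m0_12 : Nat := nat_lit 0x1c20000000818059
def n0 : Net := Net.cons 64 m0_0 (Net.cons 32 m0_1 (Net.cons 16 m0_2 (Net.cons 8 m0_3 (Net.cons 4 m0_4 (Net.cons 2 m0_5 (Net.cons 1 m0_6 (Net.cons 2 m0_7 (Net.cons 4 m0_8 (Net.cons 8 m0_9 (Net.cons 16 m0_10 (Net.cons 32 m0_11 (Net.cons 64 m0_12 (Net.nil)))))))))))))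

def m1_0 : Nat := nat_lit 0x124a5b
def m1_1 : Nat := nat_lit 0x4926aa8c000000008b084211
def m1_2 : Nat := nat_lit 0x5c450000ef080000332d0000ca13
def m1_3 : Nat := nat_lit 0x88008100c20085006a000200b50098
def m1_4 : Nat := nat_lit 0x20509000f0209080702000d03000f03
def m1_5 : Nat := nat_lit 0x11130131023121111313300230022120
def m1_6 : Nat := nat_lit 0x40100050440410051010511150405500
def m1_7 : Nat := nat_lit 0x10100000000100001010002000000000
def m1_8 : Nat := nat_lit 0x50100000003020207000203000002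
def m1_9 : Nat := nat_lit 0x8800810060002e0015000200810098
def m1_10 : Nat := nat_lit 0x1c4400004b080000332d00008013
def m1_11 : Nat := nat_lit 0x4926aa8c000000008b084211
def m1_12 : Nat := nat_lit 0x124a5b
def n1 : Net := Net.cons 64 m1_0 (Net.cons 32 m1_1 (Net.cons 16 m1_2 (Net.cons 8 m1_3 (Net.cons 4 m1_4 (Net.cons 2 m1_5 (Net.cons 1 m1_6 (Net.cons 2 m1_7 (Net.cons 4 m1_8 (Net.cons 8 m1_9 (Net.cons 16 m1_10 (Net.cons 32 m1_11 (Net.cons 64 m1_12 (Net.nil)))))))))))))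

def m2_0 : Nat := nat_lit 0xc204000011014a9f
def m2_1 : Nat := nat_lit 0x4006a50a00000000045a23e4
def m2_2 : Nat := nat_lit 0x212b00000468000053c20000681d
def m2_3 : Nat := nat_lit 0xdd004100c7006a0017000000580050
def m2_4 : Nat := nat_lit 0x5080503060c060c060409060f010f0b
def m2_5 : Nat := nat_lit 0x22120320203223111030103102110011
def m2_6 : Nat := nat_lit 0x54514005005005011551415144145510
def m2_7 : Nat := nat_lit 0x1010000000000011000110020110010
def m2_8 : Nat := nat_lit 0x10503020802040607000800030001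
def m2_9 : Nat := nat_lit 0x2200400000006a0011009d00580050
def m2_10 : Nat := nat_lit 0x212b00000008000040660000283e
def m2_11 : Nat := nat_lit 0x4006a50a00000000045a23e4
def m2_12 : Nat := nat_lit 0xc204000011014a9f
def n2 : Net := Net.cons 64 m2_0 (Net.cons 32 m2_1 (Net.cons 16 m2_2 (Net.cons 8 m2_3 (Net.cons 4 m2_4 (Net.cons 2 m2_5 (Net.cons 1 m2_6 (Net.cons 2 m2_7 (Net.cons 4 m2_8 (Net.cons 8 m2_9 (Net.cons 16 m2_10 (Net.cons 32 m2_11 (Net.cons 64 m2_12 (Net.nil)))))))))))))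

def m3_0 : Nat := nat_lit 0x6210100801001445
def m3_1 : Nat := nat_lit 0x375359010000000032581469
def m3_2 : Nat := nat_lit 0x1f2500002ab000000ea90000906a
def m3_3 : Nat := nat_lit 0x60098002900400012002f00c40020
def m3_4 : Nat := nat_lit 0x206020a0f0c0c0b0a0a07000103060a
def m3_5 : Nat := nat_lit 0x10013333330020102033000200030310
def m3_6 : Nat := nat_lit 0x15510541004511001141014104054544
def m3_7 : Nat := nat_lit 0x10010000000002000200020000000001
def m3_8 : Nat := nat_lit 0x2060205000003010105000300030605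
def m3_9 : Nat := nat_lit 0x60098002900400012001400040020
def m3_10 : Nat := nat_lit 0x1f2500002aa000000aa90000906a
def m3_11 : Nat := nat_lit 0x375359010000000032181468
def m3_12 : Nat := nat_lit 0x6210100801001445
def n3 : Net := Net.cons 64 m3_0 (Net.cons 32 m3_1 (Net.cons 16 m3_2 (Net.cons 8 m3_3 (Net.cons 4 m3_4 (Net.cons 2 m3_5 (Net.cons 1 m3_6 (Net.cons 2 m3_7 (Net.cons 4 m3_8 (Net.cons 8 m3_9 (Net.cons 16 m3_10 (Net.cons 32 m3_11 (Net.cons 64 m3_12 (Net.nil)))))))))))))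

def m4_0 : Nat := nat_lit 0x1400000010080261
def m4_1 : Nat := nat_lit 0x2405a8890000000080400074
def m4_2 : Nat := nat_lit 0x56450000cd1400008be200006305
def m4_3 : Nat := nat_lit 0x610024000a00830070008900b80074
def m4_4 : Nat := nat_lit 0x800050e040f0a0b0c0b0f0c000d0100
def m4_5 : Nat := nat_lit 0x31303101130223111033000121201011
def m4_6 : Nat := nat_lit 0x1510444411140440141440111414540
def m4_7 : Nat := nat_lit 0x1000110002000110100000010111010
def m4_8 : Nat := nat_lit 0x800050109000000000000040d000100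
def m4_9 : Nat := nat_lit 0x610024008b00020026008900060014
def m4_10 : Nat := nat_lit 0x5645000008970000028000006305
def m4_11 : Nat := nat_lit 0x2405a8890000000080400074
def m4_12 : Nat := nat_lit 0x1400000010080261
def n4 : Net := Net.cons 64 m4_0 (Net.cons 32 m4_1 (Net.cons 16 m4_2 (Net.cons 8 m4_3 (Net.cons 4 m4_4 (Net.cons 2 m4_5 (Net.cons 1 m4_6 (Net.cons 2 m4_7 (Net.cons 4 m4_8 (Net.cons 8 m4_9 (Net.cons 16 m4_10 (Net.cons 32 m4_11 (Net.cons 64 m4_12 (Net.nil)))))))))))))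

def cl1 : Nat := nat_lit 0x3fffffffffffffffffffffffffffffff
def tt1 : Nat := nat_lit 0xc00a401120090040000082080004
def tm1_0 : Nat := nat_lit 0x30e6d83be637a0f929614101e2a8c72c
def tm1_1 : Nat := nat_lit 0x18c52281024e04a42a80dc9e15105f98
def tm1_2 : Nat := nat_lit 0x5372f50a1a414902000000000005fb8
def tm1_3 : Nat := nat_lit 0x1df73ff1a7ea91748fabf5ed69a58040
def tm1_4 : Nat := nat_lit 0x22080004000000000000000000000000
def ip1_0 : Nat := nat_lit 0x2f4c1125a6ea15f0aaa8f87f7db4db38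
def ip1_1 : Nat := nat_lit 0x1002e0eb45dda16d0fc34d96961c5284
def ip1_2 : Nat := nat_lit 0x2fbd1f14a2221490a028b06969a18d78
def ip1 : List Nat := [ip1_0, ip1_1, ip1_2]
def l1 : Let := ⟨0, false, cl1, tt1, [tm1_0, tm1_1, tm1_2, tm1_3, tm1_4]⟩

def cl2 : Nat := nat_lit 0x3fffffffffffffffffffffffffffffff
def tt2 : Nat := nat_lit 0x2000210018004a025014020000422042
def tm2_0 : Nat := nat_lit 0x2c7c79291bc86a2a51d432acb86b3062
def tm2_1 : Nat := nat_lit 0x1c6b8a74a3f2b4758121382f2dbd54ac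
def tm2_2 : Nat := nat_lit 0x1278003210000000200400000080200
def tm2_3 : Nat := nat_lit 0x1d9dd6cb6099204901c10c9092000000
def ip2_0 : Nat := nat_lit 0x346b2d211b484a2250941e060557724a
def ip2_1 : Nat := nat_lit 0x9d41af4a2e29474832170afadb556a0
def ip2_2 : Nat := nat_lit 0x102bc48b6111200900c00c101208000c
def ip2 : List Nat := [ip2_0, ip2_1, ip2_2]
def l2 : Let := ⟨1, false, cl2, tt2, [tm2_0, tm2_1, tm2_2, tm2_3, 0x0]⟩

def cl3 : Nat := nat_lit 0x3fffffffffffffffffffffffffffffff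
def tt3 : Nat := nat_lit 0x172a0480050401802c0a814040008918
def tm3_0 : Nat := nat_lit 0x176a3caa1f0ca9a32c6a995140da8958
def tm3_1 : Nat := nat_lit 0x2000e9210a81542700601c1101c75240
def tm3_2 : Nat := nat_lit 0x2840c22b5010ae2c50341e1304902000
def tm3_3 : Nat := nat_lit 0x2840fb4a6ad9700b00c0000492080000
def ip3_0 : Nat := nat_lit 0x3f6a3f885f1dff8f7c3e8b53d452a958
def ip3_1 : Nat := nat_lit 0x2800ab2b50594a2a50d4121697df7240
def ip3_2 : Nat := nat_lit 0x80040406881900c00000c1090800000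
def ip3 : List Nat := [ip3_0, ip3_1, ip3_2]
def l3 : Let := ⟨2, false, cl3, tt3, [tm3_0, tm3_1, tm3_2, tm3_3, 0x0]⟩

def cl4 : Nat := nat_lit 0x3fffffffffffffffffffffffffffffff
def tt4 : Nat := nat_lit 0x8951254a0a29454832164a928a004a0
def tm4_0 : Nat := nat_lit 0x38d79275aea294f4932166a968a835a4
def tm4_1 : Nat := nat_lit 0x234201a01c4420200000024042010102
def tm4_2 : Nat := nat_lit 0x3608e901180420a10040024040033a04
def tm4_3 : Nat := nat_lit 0x374ae8a1164820011044800002080000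
def ip4_0 : Nat := nat_lit 0x1fdf3af5b4ee94f4832164a96aa11ea0
def ip4_1 : Nat := nat_lit 0x204809200e4800211004824000033302
def ip4_2 : Nat := nat_lit 0x708e000000020810040804042080104
def ip4 : List Nat := [ip4_0, ip4_1, ip4_2]
def l4 : Let := ⟨3, false, cl4, tt4, [tm4_0, tm4_1, tm4_2, tm4_3, 0x0]⟩

def cl5 : Nat := nat_lit 0x3fffffffffffffffffffffffffffffff
def tt5 : Nat := nat_lit 0x400821024800200080181615155200
def tm5_0 : Nat := nat_lit 0x39cc9c2b674e71a82cd09b167535524c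
def tm5_1 : Nat := nat_lit 0x41f418c851441c20f5fe3e80000000e
def tm5_2 : Nat := nat_lit 0x1db7f642f8802a001056036068200050
def tm5_3 : Nat := nat_lit 0x1dbf57cca197500b6009008000000000
def tm5_4 : Nat := nat_lit 0x22000000000000000000000000000000
def ip5_0 : Nat := nat_lit 0x29d72ead3a5a5a6253957a3e3d355242
def ip5_1 : Nat := nat_lit 0x35b3f24a58136a0b705c028000000046
def ip5_2 : Nat := nat_lit 0x62c0184a58411c00f03e16868200018
def ip5 : List Nat := [ip5_0, ip5_1, ip5_2]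
def l5 : Let := ⟨4, false, cl5, tt5, [tm5_0, tm5_1, tm5_2, tm5_3, tm5_4]⟩

def cl6 : Nat := nat_lit 0x3fffffffffffffffffffffffffffffff
def tm6_0 : Nat := nat_lit 0x166eda3ae637b0f921e1991ff739436d
def tm6_1 : Nat := nat_lit 0x12ce08541f42de827d174b1254777c52
def tm6_2 : Nat := nat_lit 0xf3d2705a4a484902503010040255ff8
def tm6_3 : Nat := nat_lit 0x1fff3ff5a3ea11748aa8f4ed29808000
def tm6_4 : Nat := nat_lit 0x20000000000000000000000000000000
def ip6_0 : Nat := nat_lit 0x162fe3ef65fdb17d8fe3fdfeffbcd39d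
def ip6_1 : Nat := nat_lit 0x90011209e4a4ff27a1c5a1714567a32
def ip6_2 : Nat := nat_lit 0x36ff2ed521a4900485a3a5e869a185c8
def ip6 : List Nat := [ip6_0, ip6_1, ip6_2]
def l6 : Let := ⟨0, true, cl6, 0x0, [tm6_0, tm6_1, tm6_2, tm6_3, tm6_4]⟩

def cl7 : Nat := nat_lit 0x3fffffffffffffffffffffffffffffff
def tm7_0 : Nat := nat_lit 0x3c31711fb9aade5ed274468395de66ce
def tm7_1 : Nat := nat_lit 0x16a0c29e8426b5d4adaa8943579ccd9d
def tm7_2 : Nat := nat_lit 0x96dc829224000200200702c3a291220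
def tm7_3 : Nat := nat_lit 0x1d9f96c36199204901c10c9080000000
def ip7_0 : Nat := nat_lit 0x2995f35ff8bbfe5fd37562b9baea24e6
def ip7_1 : Nat := nat_lit 0x1fbf96d485ae95d4aeabede968a08db9
def ip7_2 : Nat := nat_lit 0x146acc2b6359202901c01c16971d520c
def ip7 : List Nat := [ip7_0, ip7_1, ip7_2]
def l7 : Let := ⟨1, true, cl7, 0x0, [tm7_0, tm7_1, tm7_2, tm7_3, 0x0]⟩

def cl8 : Nat := nat_lit 0x3fffffffffffffffffffffffffffffff
def tm8_0 : Nat := nat_lit 0x3f2a1caa2f1cb3a37c7e9347d705fb19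
def tm8_1 : Nat := nat_lit 0x95c176da2adc51832160a9293d56a6
def tm8_2 : Nat := nat_lit 0x2840ea2a5091ae085074020304522040
def tm8_3 : Nat := nat_lit 0x2840fb4b6ad9702f00c01c1492880000
def ip8_0 : Nat := nat_lit 0x176ac4a9055435a92cea9954d305db19
def ip8_1 : Nat := nat_lit 0x895c075c0e3947c83a174aca9a556a6
def ip8_2 : Nat := nat_lit 0x20402b0a18187e0350740a1216da2040
def ip8_3 : Nat := nat_lit 0x1000220000000000000100000000
def ip8 : List Nat := [ip8_0, ip8_1, ip8_2, ip8_3]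
def l8 : Let := ⟨2, true, cl8, 0x0, [tm8_0, tm8_1, tm8_2, tm8_3, 0x0]⟩

def cl9 : Nat := nat_lit 0x3fffffffffffffffffffffffffffffff
def tm9_0 : Nat := nat_lit 0x1adf5a54aea2b4f58361e6a968a127a3
def tm9_1 : Nat := nat_lit 0x12628caa5b556b8a7c9a1916d75fd05e
def tm9_2 : Nat := nat_lit 0x708e0011c0420810040000040033b04
def tm9_3 : Nat := nat_lit 0x174ae9a1164820211044824002080000
def tm9_4 : Nat := nat_lit 0x20000000000000000000000000000000
def ip9_0 : Nat := nat_lit 0x3a9f93d4aca6b454932566e928a224a3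
def ip9_1 : Nat := nat_lit 0x3722c58a4b156b8a7cde9b56d556e95a
def ip9_2 : Nat := nat_lit 0x12422820044c20200040804040091a00
def ip9_3 : Nat := nat_lit 0x80001100000010000000002000004
def ip9 : List Nat := [ip9_0, ip9_1, ip9_2, ip9_3]
def l9 : Let := ⟨3, true, cl9, 0x0, [tm9_0, tm9_1, tm9_2, tm9_3, tm9_4]⟩

def cl10 : Nat := nat_lit 0x3fffffffffffffffffffffffffffffff
def tm10_0 : Nat := nat_lit 0x38c26c253b5e0a6833d97b1e75355213
def tm10_1 : Nat := nat_lit 0xd01829ec037f456832067e9eacaade2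
def tm10_2 : Nat := nat_lit 0x15bbf742fd802b801c0083606820005c
def tm10_3 : Nat := nat_lit 0x1dbb57cca197500b605f008000000000
def tm10_4 : Nat := nat_lit 0x22040000000000000000000000000000
def ip10_0 : Nat := nat_lit 0x3e589963e7dd21a92ccb99d65515521d
def ip10_1 : Nat := nat_lit 0x2e34d056e033b45da36964a9aaeaada4
def ip10_2 : Nat := nat_lit 0x398f678c9d865bc25f16e3686820005a
def ip10 : List Nat := [ip10_0, ip10_1, ip10_2]
def l10 : Let := ⟨4, true, cl10, 0x0, [tm10_0, tm10_1, tm10_2, tm10_3, tm10_4]⟩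

def NT : List Net := [n0, n1, n2, n3, n4]
def LT : List Let := [⟨0, false, 0, 0, []⟩, l1, l2, l3, l4, l5, l6, l7, l8, l9, l10]
def T : Tab := ⟨NT, LT⟩
def EX : List (List Nat) := [[], [0], [2], [4], [6], [8], [1], [3], [5], [7], [9]]
def RL : List (List Nat) := [[0, 0], [2, 2], [4, 4], [6, 6], [8, 8], [0, 2, 0, 2, 0, 2], [0, 8, 0, 8], [2, 4, 2, 4, 2, 4], [2, 6, 2, 6], [2, 8, 2, 8], [0, 7, 5, 7, 5, 7, 5, 7, 5], [4, 8, 4, 8], [6, 8, 6, 8, 6, 8], [2, 4, 6, 8, 2, 4, 6, 8, 2, 4, 6, 8, 2, 4, 6, 8, 2, 4, 6, 8, 2, 4, 6, 8, 2, 4, 6, 8, 2, 4, 6, 8]]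
def XL : List (List Nat) := []
def BW : List (List Nat) := [[0], [4], [6], [8]]
def IV : Nat := 0x5040302010a0908070600
def L : List Nat := [1, 2, 3, 4, 5, 6, 7, 8, 9, 10]
def gs : List Nat := [1, 2, 3, 4, 5]
def base : List Nat := [1, 3, 4, 5]

end Cfsg.Agent.Spor.Th126
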